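import Cfsg.Agent.Lib.SuzThreeFive.Space

/-!
The subgroup is its own centraliser.
-/

set_option autoImplicit false
set_option maxRecDepth 100000
set_option synthInstance.maxSize 2000

namespace CfsgLib.SuzThreeFive

open CfsgLib.CosetEnum CfsgLib.SuzOut

/-- The possible images of a point under an element centralising the subgroup and respecting the pairs. -/
noncomputable def candC (pairs : List (ℕ × ℕ)) (q : ℕ) : List ℕ :=
  (List.range 1782).filter fun r => force r fun r =>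
    (aW.all fun w => Nat.beq (rel r (run1 w r)) (rel q (run1 w q))) &&
      pairs.all fun p => Nat.beq (rel p.2 r) (rel p.1 q)

theorem mem_aW : ∀ w ∈ aW, ∃ i : Fin 5, w = aw i := by decide +kernel

theorem candC_mem {g : presSuz.Grp} (hg : ∀ a ∈ A, g * a = a * g) {pairs : List (ℕ × ℕ)}
    (hp : ∀ p ∈ pairs, p.1 < Suz1782.cert.T.n ∧ pt g p.1 = p.2) {q : ℕ} (hq : q < Suz1782.cert.T.n) :
    pt g q ∈ candC pairs q := by
  refine List.mem_filter.mpr ⟨List.mem_range.mpr (pt_lt g hq), ?_⟩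
  simp only [force_eq, Bool.and_eq_true, List.all_eq_true]
  refine ⟨fun w hw => ?_, fun p hpm => ?_⟩
  · obtain ⟨i, rfl⟩ := mem_aW w hw
    rw [pt_comm (aw_ok i) (hg _ ⟨unit5 i, xh_unit i⟩) hq, rel_inv g hq (run_lt (aw_ok i) hq)]
    exact Nat.beq_refl _
  · rw [← (hp p hpm).2, rel_inv g (hp p hpm).1 hq]
    exact Nat.beq_refl _

/-- The images of a point under given elements. -/
noncomputable def orbL (q : ℕ) (l : List ℕ) : List ℕ := l.map fun k => run1 (xW k) q

/-- The pairs fixing the orbit. -/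
noncomputable def idPairs (l : List ℕ) : List (ℕ × ℕ) := l.map fun d => (d, d)

/-- The first orbit. -/
noncomputable def orb0 : List ℕ := orbL 0 rep0

/-- The second orbit. -/
noncomputable def orb1 : List ℕ := orbL 1 rep1

/-- The third orbit. -/
noncomputable def orb14 : List ℕ := orbL 14 rep14

/-- The pairs of a map from the first orbit to the second. -/
noncomputable def swapPairs : List (ℕ × ℕ) := rep0.map fun k => (run1 (xW k) 0, run1 (xW k) 1)

/-- The possible images of the first point. -/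
noncomputable def candD : List ℕ :=
  (candC [] 0).filter fun r => force r fun r => Nat.beq (rel r (run1 (xW 17) r)) (rel 0 (run1 (xW 17) 0))

theorem candD_mem {g : presSuz.Grp} (hg : ∀ a ∈ A, g * a = a * g) : pt g 0 ∈ candD := by
  have hn : (0 : ℕ) < Suz1782.cert.T.n := show (0 : ℕ) < 1782 by decide
  refine List.mem_filter.mpr ⟨candC_mem hg (pairs := []) (by simp) hn, ?_⟩
  rw [force_eq, pt_comm (xW_okWord 17) (hg _ ⟨vec 17, xh_vec 17⟩) hn, rel_inv g hn (run_lt (xW_okWord 17) hn)]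
  exact Nat.beq_refl _

theorem cand0 : (candD.all fun r => (orb0.any fun s => Nat.beq r s) || orb1.any fun s => Nat.beq r s) = true := by
  decide +kernel

theorem cand_swap : candC swapPairs 1 = [] := by decide +kernel

theorem cand1 : ((candC (idPairs orb0) 1).all fun r => Nat.beq r 1) = true := by decide +kernel

theorem cand14 : ((candC (idPairs (orb0 ++ orb1)) 14).all fun r => fix01.any fun k => Nat.beq r (run1 (xW k) 14)) = true := by
  decide +kernel

theorem fix01_ok : ∀ k ∈ fix01, run1 (xW k) 0 = 0 ∧ run1 (xW k) 1 = 1 := by decide +kernel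

theorem cand_six : (six.all fun b => (candC (idPairs (orb0 ++ orb1 ++ orb14)) b).all fun r => Nat.beq r b) = true := by
  decide +kernel

/-- Fixing a point gives the fixed orbit. -/
theorem fix_orbL {g : presSuz.Grp} (hg : ∀ a ∈ A, g * a = a * g) {q : ℕ} (hq : q < Suz1782.cert.T.n)
    (h : pt g q = q) (l : List ℕ) : ∀ d ∈ orbL q l, d < Suz1782.cert.T.n ∧ pt g d = d := by
  intro d hd
  obtain ⟨k, -, rfl⟩ := List.mem_map.mp hd
  refine ⟨run_lt (xW_okWord k) hq, ?_⟩
  rw [← pt_comm (xW_okWord k) (hg _ ⟨vec k, xh_vec k⟩) hq, h]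

theorem idPairs_ok {g : presSuz.Grp} {l : List ℕ} (h : ∀ d ∈ l, d < Suz1782.cert.T.n ∧ pt g d = d) :
    ∀ p ∈ idPairs l, p.1 < Suz1782.cert.T.n ∧ pt g p.1 = p.2 := by
  intro p hp
  obtain ⟨d, hd, rfl⟩ := List.mem_map.mp hp
  exact h d hd

theorem shift_comm {g : presSuz.Grp} (hg : ∀ a ∈ A, g * a = a * g) (k : ℕ) :
    ∀ a ∈ A, ((el (xW k))⁻¹ * g) * a = a * ((el (xW k))⁻¹ * g) := by
  intro a ha
  have h1 : Commute (el (xW k)) a := by
    obtain ⟨v, rfl⟩ := ha
    rw [← xh_vec]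
    exact (Commute.all (vec k) v).map xh
  exact (h1.inv_left.mul_left (show Commute g a from hg a ha)).eq

theorem shift_pt {g : presSuz.Grp} {k q d : ℕ} (hq : q < Suz1782.cert.T.n) (hd : d < Suz1782.cert.T.n)
    (h : pt g q = run1 (xW k) d) : pt ((el (xW k))⁻¹ * g) q = d := by
  rw [pt_mul _ _ hq, h, ← pt_el (xW_okWord k) hd, ← pt_mul _ _ hd, inv_mul_cancel, pt_one]

theorem shift_mem {g : presSuz.Grp} (k : ℕ) (h : (el (xW k))⁻¹ * g ∈ A) : g ∈ A := by
  have := mul_mem (mem_A (vec k)) h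
  rwa [xh_vec, mul_inv_cancel_left] at this

theorem pts_lt : (0 : ℕ) < Suz1782.cert.T.n ∧ (1 : ℕ) < Suz1782.cert.T.n ∧ (14 : ℕ) < Suz1782.cert.T.n :=
  show (0 : ℕ) < 1782 ∧ (1 : ℕ) < 1782 ∧ (14 : ℕ) < 1782 by decide

theorem mem_of_fix {g : presSuz.Grp} (hg : ∀ a ∈ A, g * a = a * g) (h0 : pt g 0 = 0) (h1 : pt g 1 = 1) :
    g ∈ A := by
  obtain ⟨l0, l1, l14⟩ := pts_lt
  have f01 : ∀ d ∈ orb0 ++ orb1, d < Suz1782.cert.T.n ∧ pt g d = d := fun d hd =>
    (List.mem_append.mp hd).elim (fix_orbL hg l0 h0 _ d) (fix_orbL hg l1 h1 _ d)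
  have h14 := List.all_eq_true.mp cand14 _ (candC_mem hg (idPairs_ok f01) l14)
  simp only [List.any_eq_true] at h14
  obtain ⟨k, hk, e⟩ := h14
  obtain ⟨k0, k1⟩ := fix01_ok k hk
  refine shift_mem k ?_
  have hg' := shift_comm hg k
  have e0 := shift_pt (g := g) (k := k) l0 l0 (h0.trans k0.symm)
  have e1 := shift_pt (g := g) (k := k) l1 l1 (h1.trans k1.symm)
  have e14 := shift_pt (g := g) (k := k) l14 l14 (Nat.eq_of_beq_eq_true e)
  have f : ∀ d ∈ orb0 ++ orb1 ++ orb14, d < Suz1782.cert.T.n ∧ pt ((el (xW k))⁻¹ * g) d = d := fun d hd => by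
    rcases List.mem_append.mp hd with hd | hd
    · rcases List.mem_append.mp hd with hd | hd
      · exact fix_orbL hg' l0 e0 _ d hd
      · exact fix_orbL hg' l1 e1 _ d hd
    · exact fix_orbL hg' l14 e14 _ d hd
  have hone : (el (xW k))⁻¹ * g = 1 := eq_one_of_six fun b hb =>
    Nat.eq_of_beq_eq_true (List.all_eq_true.mp (List.all_eq_true.mp cand_six b hb) _
      (candC_mem hg' (idPairs_ok f) (six_lt b hb)))
  rw [hone]
  exact one_mem _

/-- The centraliser. -/
theorem cent_le {g : presSuz.Grp} (hg : ∀ a ∈ A, g * a = a * g) : g ∈ A := by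
  obtain ⟨l0, l1, -⟩ := pts_lt
  have h0 := List.all_eq_true.mp cand0 _ (candD_mem hg)
  simp only [Bool.or_eq_true, List.any_eq_true] at h0
  rcases h0 with ⟨s, hs, e⟩ | ⟨s, hs, e⟩ <;> obtain ⟨k, -, rfl⟩ := List.mem_map.mp hs <;>
    refine shift_mem k ?_ <;> have hg' := shift_comm hg k
  · have e0 := shift_pt (g := g) (k := k) l0 l0 (Nat.eq_of_beq_eq_true e)
    have e1 := List.all_eq_true.mp cand1 _
      (candC_mem hg' (idPairs_ok (fix_orbL hg' l0 e0 rep0)) l1)
    exact mem_of_fix hg' e0 (Nat.eq_of_beq_eq_true e1)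
  · have e0 := shift_pt (g := g) (k := k) l0 l1 (Nat.eq_of_beq_eq_true e)
    have hp : ∀ p ∈ swapPairs, p.1 < Suz1782.cert.T.n ∧ pt ((el (xW k))⁻¹ * g) p.1 = p.2 := by
      intro p hp
      obtain ⟨m, -, rfl⟩ := List.mem_map.mp hp
      refine ⟨run_lt (xW_okWord m) l0, ?_⟩
      rw [← pt_comm (xW_okWord m) (hg' _ ⟨vec m, xh_vec m⟩) l0, e0]
    have h1 := candC_mem hg' hp l1
    rw [cand_swap] at h1
    simp at h1

theorem centralizer_A : Subgroup.centralizer (A : Set presSuz.Grp) = A := by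
  refine le_antisymm (fun g hg => cent_le fun a ha => ((Subgroup.mem_centralizer_iff.mp hg) a ha).symm) ?_
  intro g hg
  refine Subgroup.mem_centralizer_iff.mpr fun a ha => ?_
  exact congrArg Subtype.val ((A_comm).is_comm.comm ⟨a, ha⟩ ⟨g, hg⟩)

end CfsgLib.SuzThreeFive
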