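/-
Certificate data for an elementary abelian subgroup of order 243 of Suz and its normaliser.
-/
import Cfsg.Agent.Lib.SuzOut.Action

set_option autoImplicit false

namespace CfsgLib.SuzThreeFive

/-- The basis. -/
def aW : List (List ℕ) := [[2, 1, 5, 6, 1, 2, 3, 2, 1, 6, 5, 1, 2, 3],
  [1, 3, 2, 3, 2, 1, 5, 6, 1, 2, 3, 2, 1, 6, 5, 3],
  [3, 6, 1, 2, 3, 2, 1, 6, 5, 1, 2, 3, 2, 1, 5, 3],
  [1, 5, 6, 1, 0, 2, 3, 2, 1, 6, 5, 1, 2, 3, 2, 0],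
  [1, 2, 1, 3, 2, 6, 1, 5, 6, 1, 2, 3, 2, 1, 5, 6, 1, 5, 2, 0]]

/-- Two normalising elements. -/
def nW : List (List ℕ) := [[4, 2, 3, 1, 2, 0, 1, 6, 5, 3, 2, 3, 4, 3, 2, 3, 1, 2, 3, 4, 3, 0, 1, 2],
  [0, 1, 5, 2, 1, 6, 3]]

/-- Their matrices. -/
def nMat : List (List ℕ) := [[176, 3, 9, 150, 81],
  [18, 128, 81, 3, 106]]

/-- An element of order eleven. -/
def sW : List ℕ := [4, 2, 3, 1, 2, 0, 1, 6, 5, 3, 2, 3, 4, 3, 2, 3, 1, 2, 3, 4, 3, 0, 1, 2, 0, 1, 5, 2, 1, 6, 3, 0, 1, 5, 2, 1, 6, 3]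

/-- Its matrix. -/
def sMat : List ℕ := [27, 1, 106, 210, 242]

/-- The eleven lines. -/
def lineV : List ℕ := [1, 3, 9, 27, 76, 81, 226, 196, 210, 121, 106]

/-- The permutations of the lines. -/
def linePerm : List (List ℕ) := [[10, 1, 2, 8, 6, 5, 4, 9, 3, 7, 0],
  [2, 6, 5, 1, 4, 10, 0, 8, 7, 3, 9]]

/-- A fixed-point-free element. -/
def yW : List ℕ := [3, 6, 1, 0, 2, 1, 3, 2, 6, 1, 0, 5, 1, 2]

/-- A point fixed by the first basis element. -/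
def fixPt : ℕ := 14

/-- The orbit of the first basis element. -/
def treeS : List (ℕ × ℕ × ℕ) := [(1, 0, 0), (176, 0, 0), (18, 0, 1), (121, 1, 1), (162, 2, 1), (140, 3, 0), (27, 3, 1), (210, 5, 1), (150, 6, 0), (3, 6, 1), (54, 7, 0), (196, 7, 1), (128, 9, 1), (6, 10, 1), (242, 11, 0), (76, 12, 0), (226, 13, 1), (44, 15, 1), (2, 16, 1), (106, 18, 0), (9, 18, 1), (81, 20, 1)]

/-- The orbit of the fixed-point-free elements. -/
def treeF : List (ℕ × ℕ × ℕ) := [(19, 0, 0), (167, 0, 0), (180, 0, 1), (40, 1, 1), (95, 2, 1), (59, 3, 0), (203, 3, 1), (163, 4, 0), (51, 4, 1), (116, 5, 1), (151, 6, 0), (124, 6, 1), (138, 8, 0), (148, 8, 1), (55, 9, 0), (65, 9, 1), (158, 10, 1), (143, 11, 0), (155, 11, 1), (201, 12, 1), (200, 13, 0), (30, 13, 1), (24, 14, 1), (46, 15, 0), (96, 15, 1), (112, 16, 0), (129, 16, 1), (68, 17, 1), (109, 18, 0), (4, 18, 1), (72, 19, 0), (115,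 19, 1), (26, 20, 1), (144, 21, 0), (131, 21, 1), (145, 22, 1), (183, 23, 1), (189, 25, 1), (216, 26, 0), (117, 26, 1), (49, 27, 0), (197, 27, 1), (91, 28, 1), (179, 29, 0), (119, 29, 1), (168, 30, 1), (161, 31, 0), (74, 31, 1), (94, 32, 0), (154, 32, 1), (184, 33, 1), (79, 34, 0), (126, 34, 1), (206, 35, 0), (175, 35, 1), (193, 36, 1), (69, 37, 0), (173, 38, 1), (240, 39, 0), (181, 39, 1), (41, 40, 1), (136, 41, 0), (141, 41, 1), (23, 42, 0), (178, 42, 1), (219, 43, 1), (67, 44, 0), (156, 45, 1), (230, 46, 1), (28, 47, 0), (177, 47, 1), (33, 48, 1), (215, 49, 0), (13, 49, 1), (89, 50, 0), (211, 50, 1), (142, 51, 1), (222, 52, 0), (107, 54, 0), (130, 54, 1), (239, 55, 0), (52, 55, 1), (70, 56, 1), (7, 57, 0), (86, 59, 0), (232, 60, 0), (194, 60, 1), (45, 62, 0), (29, 63, 1), (101, 64, 0), (228, 64, 1), (132, 65, 0), (42, 67, 0), (120, 67, 1), (118, 68, 1), (21,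 69, 1), (237, 70, 1), (147, 71, 0), (229, 71, 1), (60, 72, 1), (188, 73, 0), (71, 74, 1), (214, 75, 1), (77, 76, 1), (153, 77, 1), (233, 78, 1), (149, 79, 0), (108, 79, 1), (199, 80, 1), (139, 81, 1), (122, 82, 0), (61, 82, 1), (217, 83, 1), (213, 84, 1), (225, 85, 1), (43, 86, 1), (165, 87, 1), (220, 88, 0), (12, 88, 1), (114, 90, 0), (218, 91, 1), (234, 93, 0), (36, 93, 1), (137, 94, 0), (172, 94, 1), (47, 95, 1), (123, 96, 0), (190, 96, 1), (39, 97, 1), (38, 98, 0), (127, 98, 1), (207, 99, 0), (57, 100, 1), (31, 103, 0), (35, 103, 1), (22, 104, 1), (48, 106, 1), (231, 107, 0), (100, 107, 1), (8, 108, 1), (191, 109, 0), (192, 109, 1), (113, 111, 0), (223, 111, 1), (164, 112, 1), (78, 113, 1), (111, 114, 0), (11, 114, 1), (62, 115, 0), (58, 115, 1), (209, 118, 1), (56, 119, 1), (182, 120, 1), (92, 121, 1), (159, 122, 0), (84, 122, 1), (85, 123, 1), (104, 124,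 0), (5, 124, 1), (238, 125, 0), (174, 125, 1), (236, 127, 0), (170, 127, 1), (212, 128, 1), (93, 129, 1), (146, 130, 0), (10, 130, 1), (98, 131, 1), (134, 132, 1), (135, 136, 0), (50, 136, 1), (16, 138, 1), (103, 139, 0), (235, 139, 1), (63, 141, 0), (34, 141, 1), (32, 143, 0), (25, 144, 0), (185, 144, 1), (198, 145, 0), (88, 147, 0), (90, 147, 1), (241, 148, 1), (110, 149, 0), (125, 149, 1), (157, 150, 0), (37, 151, 0), (15, 151, 1), (169, 153, 0), (221, 154, 1), (204, 155, 1), (17, 156, 0), (195, 156, 1), (208, 159, 1), (160, 163, 0), (205, 163, 1), (166, 165, 1), (99, 166, 1), (152, 167, 1), (73, 168, 0), (227, 168, 1), (53, 173, 0), (83, 173, 1), (87, 174, 1), (80, 175, 0), (202, 178, 1), (187, 181, 1), (82, 183, 1), (64, 184, 0), (102, 186, 1), (75, 190, 0), (66, 192, 0), (224, 195, 0), (133, 198, 0), (186, 199, 1), (20, 200, 1), (14, 207, 0), (97, 207, 1),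 (105, 208, 1), (171, 215, 1)]

/-- Representatives for the orbit of the point 0. -/
def rep0 : List ℕ := [0, 1, 2, 3, 4, 5, 6, 7, 8, 9, 10, 11, 12, 15, 18, 19, 20, 21, 24, 27, 28, 30, 45, 54, 56, 60, 63, 81, 82, 83, 84, 85, 86, 87, 88, 89, 90, 91, 92, 93, 96, 99, 100, 101, 102, 105, 108, 109, 111, 126, 135, 137, 141, 144, 162, 163, 164, 165, 166, 167, 168, 169, 170, 171, 172, 173, 174, 177, 180, 181, 182, 183, 186, 189, 190, 192, 207, 216, 218, 222, 225]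

/-- Representatives for the orbit of the point 1. -/
def rep1 : List ℕ := [0, 1, 2, 3, 4, 5, 6, 7, 8, 9, 10, 11, 12, 15, 18, 19, 20, 21, 24, 27, 28, 30, 45, 54, 56, 60, 63, 81, 82, 83, 84, 85, 86, 87, 88, 89, 90, 91, 92, 93, 96, 99, 100, 101, 102, 105, 108, 109, 111, 126, 135, 137, 141, 144, 162, 163, 164, 165, 166, 167, 168, 169, 170, 171, 172, 173, 174, 177, 180, 181, 182, 183, 186, 189, 190, 192, 207, 216, 218, 222, 225]

/-- Representatives for the orbit of the point 14. -/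
def rep14 : List ℕ := [0, 3, 6, 9, 12, 15, 18, 21, 24, 27, 30, 33, 36, 39, 42, 45, 48, 51, 54, 57, 60, 63, 66, 69, 72, 75, 78, 81, 84, 87, 90, 93, 96, 99, 102, 105, 108, 111, 114, 117, 120, 123, 126, 129, 132, 135, 138, 141, 144, 147, 150, 153, 156, 159, 162, 165, 168, 171, 174, 177, 180, 183, 186, 189, 192, 195, 198, 201, 204, 207, 210, 213, 216, 219, 222, 225, 228, 231, 234, 237, 240]

/-- The vectors fixing 0 and 1. -/
def fix01 : List ℕ := [0, 76, 44]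

/-- Words for the transversals of a chain, applied from the right. -/
def chainW : List (List (List ℕ)) := [[[],
  [1, 1, 1, 0],
  [1],
  [1, 1, 0],
  [0, 1, 1, 1, 1, 0],
  [1, 1],
  [1, 1, 1, 1, 0],
  [0, 1, 0],
  [1, 0, 1, 0],
  [1, 0],
  [0]],
 [[],
  [0, 1, 1, 1],
  [1, 1, 0, 1, 0, 1, 0, 1, 0],
  [1, 1, 1, 1, 1, 1, 1, 0, 1],
  [1, 1, 1, 0, 1, 0, 1, 0],
  [0, 1, 1, 0, 1],
  [0, 1, 0, 1, 1],
  [1, 0, 1, 1, 0, 1, 1, 1, 1, 0],
  [0, 1, 1, 0, 1, 1, 1, 1, 1, 1, 0],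
  [1, 1, 1, 1, 1, 0]],
 [[],
  [0, 1, 1, 1, 1, 1, 0, 1, 1, 1, 0],
  [0, 1, 0, 1, 0, 1, 1, 1, 0, 1, 1, 1, 0],
  [1, 1, 0, 1, 1, 0, 1, 0, 1, 1, 0],
  [1, 1, 1, 0, 1, 0, 1, 1, 1, 0, 1],
  [0, 1, 1, 1, 0, 1, 0, 1, 0, 1],
  [1, 1, 0, 1, 0, 1, 1, 1, 0, 1, 1, 1, 1],
  [1, 1, 1, 1, 1, 1, 0, 1, 0, 1, 0, 1, 1, 1],
  [0, 1, 0, 1, 0, 1, 1, 1, 1, 1, 1, 0]],
 [[],
  [1, 0, 1, 1, 1, 0, 1, 0, 1, 1, 0, 1, 1, 1, 0, 1, 1, 0],
  [1, 1, 0, 1, 0, 1, 1, 0, 1, 1, 1, 1, 1, 1, 1, 0, 1, 1, 1, 0],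
  [0, 1, 1, 0, 1, 1, 0, 1, 1, 0, 1, 0, 1, 1, 1, 0],
  [1, 0, 1, 1, 0, 1, 0, 1, 0, 1, 1, 0, 1, 1, 0],
  [1, 0, 1, 0, 1, 1, 1, 1, 0, 1, 1, 1, 1, 1, 0],
  [1, 1, 0, 1, 1, 1, 1, 1, 1, 0, 1, 1, 0, 1, 0, 1, 1, 1],
  [0, 1, 1, 1, 1, 1, 0, 1, 1, 0, 1, 1, 0, 1, 0]]]

/-- The labels of the lines in the dodecad. -/
def sigmaM : List ℕ := [1, 2, 3, 4, 12, 16, 6, 13, 18, 9, 8]

/-- The permutations of the Golay points. -/
def liftC : List ℕ := [860206747095381190746720580141156608, 297896045682105573937739505844361312]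

end CfsgLib.SuzThreeFive
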