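import Cfsg.Agent.Lib.SuzThreeFive.Norm
import Cfsg.Agent.Lib.Golay.Mathieu
import Cfsg.Agent.Lib.Golay.M11Prime

/-!
The quotient of the normaliser is the Mathieu group of degree eleven.
-/

set_option autoImplicit false
set_option maxRecDepth 100000
set_option synthInstance.maxSize 2000

namespace CfsgLib.SuzThreeFive

open CfsgLib.CosetEnum CfsgLib.SuzOut

/-- A generator of the permutation group. -/
def gfun (a : Fin 2) (i : Fin 11) : Fin 11 := Fin.ofNat 11 ((linePerm.getD a.val []).getD i.val 0)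

/-- Its inverse. -/
def ginv (a : Fin 2) (i : Fin 11) : Fin 11 :=
  ((List.finRange 11).find? fun j => decide (gfun a j = i)).getD 0

theorem gfun_ok : ∀ a : Fin 2, (∀ i, ginv a (gfun a i) = i) ∧ ∀ i, gfun a (ginv a i) = i := by decide +kernel

/-- The generating permutations. -/
def gperm (a : Fin 2) : Equiv.Perm (Fin 11) := ⟨gfun a, ginv a, (gfun_ok a).1, (gfun_ok a).2⟩

/-- The permutation group. -/
noncomputable def Gp : Subgroup (Equiv.Perm (Fin 11)) := Subgroup.closure (Set.range gperm)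

/-- A transversal element. -/
def trans (k j : ℕ) : Equiv.Perm (Fin 11) :=
  (((chainW.getD k []).getD j []).map fun x => gperm (Fin.ofNat 2 x)).prod

theorem trans_mem (k j : ℕ) : trans k j ∈ Gp := list_prod_mem fun g hg => by
  obtain ⟨x, -, rfl⟩ := List.mem_map.mp hg
  exact Subgroup.subset_closure ⟨_, rfl⟩

theorem trans0 : ∀ j : Fin 11, (trans 0 j) 0 = j := by decide +kernel

theorem trans1 : ∀ j : Fin 10, (trans 1 j) 0 = 0 ∧ ((trans 1 j) 1).val = j.val + 1 := by decide +kernel

theorem trans2 : ∀ j : Fin 9, (trans 2 j) 0 = 0 ∧ (trans 2 j) 1 = 1 ∧ ((trans 2 j) 2).val = j.val + 2 := by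
  decide +kernel

theorem trans3 : ∀ j : Fin 8, (trans 3 j) 0 = 0 ∧ (trans 3 j) 1 = 1 ∧ (trans 3 j) 2 = 2 ∧
    ((trans 3 j) 3).val = j.val + 3 := by decide +kernel

/-- A chosen element of the permutation group. -/
noncomputable def chain (q : Fin 11 × Fin 10 × Fin 9 × Fin 8) : Gp :=
  ⟨trans 0 q.1 * (trans 1 q.2.1 * (trans 2 q.2.2.1 * trans 3 q.2.2.2)),
    mul_mem (trans_mem _ _) (mul_mem (trans_mem _ _) (mul_mem (trans_mem _ _) (trans_mem _ _)))⟩

theorem chain_inj : Function.Injective chain := by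
  rintro ⟨a, b, c, d⟩ ⟨a', b', c', d'⟩ h
  have h0 : trans 0 a * (trans 1 b * (trans 2 c * trans 3 d)) =
      trans 0 a' * (trans 1 b' * (trans 2 c' * trans 3 d')) := congrArg Subtype.val h
  have e0 := Equiv.ext_iff.mp h0 0
  simp only [Equiv.Perm.mul_apply, (trans3 _).1, (trans2 _).1, (trans1 _).1, trans0] at e0
  subst e0
  have h1 := mul_left_cancel h0
  have e1 := Equiv.ext_iff.mp h1 1
  simp only [Equiv.Perm.mul_apply, (trans3 _).2.1, (trans2 _).2.1] at e1
  obtain rfl : b = b' := Fin.ext (by have := congrArg Fin.val e1; rw [(trans1 b).2, (trans1 b').2] at this; omega)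
  have h2 := mul_left_cancel h1
  have e2 := Equiv.ext_iff.mp h2 2
  simp only [Equiv.Perm.mul_apply, (trans3 _).2.2.1] at e2
  obtain rfl : c = c' := Fin.ext (by have := congrArg Fin.val e2; rw [(trans2 c).2.2, (trans2 c').2.2] at this; omega)
  have h3 := mul_left_cancel h2
  obtain rfl : d = d' := Fin.ext (by
    have := congrArg Fin.val (Equiv.ext_iff.mp h3 3); rw [(trans3 d).2.2.2, (trans3 d').2.2.2] at this; omega)
  rfl

theorem le_card_Gp : 7920 ≤ Nat.card Gp := by
  refine le_trans (le_of_eq ?_) (Nat.card_le_card_of_injective chain chain_inj)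
  simp

/-! ### The Mathieu group -/

/-- The point of a line. -/
def sig (i : Fin 11) : Cfsg.GolayPt := CfsgGolay.pt (sigmaM.getD i.val 0)

/-- The line of a point. -/
def sigInv (p : Cfsg.GolayPt) : Fin 11 :=
  ((List.finRange 11).find? fun i => decide (sig i = p)).getD 0

theorem sig_ok : (∀ i, sigInv (sig i) = i ∧ sig i ∈ CfsgGolay.toSet 340831 ∧ sig i ≠ CfsgGolay.pt 0) ∧
    ∀ p ∈ CfsgGolay.toSet 340831, p = CfsgGolay.pt 0 ∨ sig (sigInv p) = p := by decide +kernel

theorem sig_image {g : Equiv.Perm Cfsg.GolayPt} (hg : g ∈ Cfsg.Spor.M11) (i : Fin 11) :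
    sig (sigInv (g (sig i))) = g (sig i) := by
  rw [CfsgGolay.M11_eq, CfsgGolay.mem_subG] at hg
  obtain ⟨-, hf, ho⟩ := hg
  obtain ⟨-, hi, hi0⟩ := sig_ok.1 i
  have hset := ho 340831 (by simp)
  have hm : g (sig i) ∈ CfsgGolay.toSet 340831 := by
    rw [← hset]
    exact Finset.mem_image_of_mem g hi
  refine (sig_ok.2 _ hm).resolve_left fun e => hi0 (g.injective (e.trans ?_))
  exact ((CfsgGolay.mem_fixL.mp hf) _ (by simp [CfsgGolay.idx_pt])).symm

/-- The value of the representation. -/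
def rhoFun (g : Cfsg.Spor.M11) (i : Fin 11) : Fin 11 := sigInv ((g : Equiv.Perm Cfsg.GolayPt) (sig i))

theorem rhoFun_mul (g h : Cfsg.Spor.M11) (i : Fin 11) : rhoFun (g * h) i = rhoFun g (rhoFun h i) := by
  rw [rhoFun, rhoFun, rhoFun, sig_image h.2]
  rfl

theorem rhoFun_one (i : Fin 11) : rhoFun 1 i = i := (sig_ok.1 i).1

/-- The representation of the Mathieu group. -/
noncomputable def rho : Cfsg.Spor.M11 →* Equiv.Perm (Fin 11) :=
  MonoidHom.mk' (fun g => ⟨rhoFun g, rhoFun g⁻¹, fun i => by rw [← rhoFun_mul, inv_mul_cancel, rhoFun_one],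
    fun i => by rw [← rhoFun_mul, mul_inv_cancel, rhoFun_one]⟩) fun g h => Equiv.ext fun i => rhoFun_mul g h i

theorem lift_ok : ∀ a : Fin 2, (CfsgGolay.permOK (liftC.getD a.val 0) && CfsgGolay.gensKept (liftC.getD a.val 0) &&
    CfsgGolay.inSub [0] [340831] (liftC.getD a.val 0) && (List.finRange 11).all fun i =>
      Nat.beq (CfsgGolay.papp (liftC.getD a.val 0) (sigmaM.getD i.val 0)) (sigmaM.getD (gfun a i).val 0)) = true := by
  decide +kernel

theorem sigma_lt : ∀ i : Fin 11, sigmaM.getD i.val 0 < 24 := by decide +kernel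

theorem gperm_lift (a : Fin 2) : gperm a ∈ rho.range := by
  have h := lift_ok a
  simp only [Bool.and_eq_true, List.all_eq_true] at h
  obtain ⟨⟨⟨h1, h2⟩, h3⟩, h4⟩ := h
  obtain ⟨g, hg⟩ := CfsgGolay.exists_repr_of_permOK h1
  have hgM : g ∈ Cfsg.Spor.M11 := by
    rw [CfsgGolay.M11_eq]
    exact CfsgGolay.mem_subG_of_inSub (CfsgGolay.mem_M24_of_gensKept hg h2) hg h3
  refine ⟨⟨g, hgM⟩, Equiv.ext fun i => ?_⟩
  show sigInv (g (sig i)) = gfun a i
  have e : g (sig i) = sig (gfun a i) := by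
    refine CfsgGolay.idx_injective ?_
    rw [hg, sig, sig, CfsgGolay.idx_pt (sigma_lt i), CfsgGolay.idx_pt (sigma_lt _)]
    exact Nat.eq_of_beq_eq_true (h4 i (List.mem_finRange i))
  rw [e, (sig_ok.1 _).1]

theorem Gp_eq_range : rho.range = Gp ∧ Function.Injective rho := by
  have hle : Gp ≤ rho.range := (Subgroup.closure_le _).mpr (by rintro _ ⟨a, rfl⟩; exact gperm_lift a)
  have hs : Function.Surjective rho.rangeRestrict := rho.rangeRestrict_surjective
  have h1 : Nat.card rho.range ≤ Nat.card Cfsg.Spor.M11 := Nat.card_le_card_of_surjective _ hs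
  rw [CfsgGolay.card_sporM11] at h1
  have he : Gp = rho.range := Subgroup.eq_of_le_of_card_ge hle (h1.trans le_card_Gp)
  refine ⟨he.symm, ?_⟩
  have hc : Nat.card Cfsg.Spor.M11 = Nat.card rho.range := by
    rw [CfsgGolay.card_sporM11, ← he]
    exact le_antisymm le_card_Gp (he ▸ h1)
  exact rho.rangeRestrict_injective_iff.mp ((Nat.bijective_iff_surjective_and_card _).mpr ⟨hs, hc⟩).1

/-- The Mathieu group as the permutation group. -/
theorem iso_Gp : Nonempty (Gp ≃* Cfsg.Spor.M11) :=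
  ⟨((MonoidHom.ofInjective Gp_eq_range.2).trans (MulEquiv.subgroupCongr Gp_eq_range.1)).symm⟩

/-! ### The quotient -/

theorem okWord_nW : ∀ a : Fin 2, okWord (nW.getD a.val []) = true := by decide +kernel

theorem nW_mem (a : Fin 2) : el (nW.getD a.val []) ∈ Nn := by
  have he : A.map (MulAut.conj (el (nW.getD a.val []))).toMonoidHom = A := Subgroup.eq_of_le_of_card_ge
    (by
      rintro _ ⟨_, ⟨v, rfl⟩, rfl⟩
      exact ⟨_, (conj_nW a v).symm⟩)
    (by rw [Subgroup.card_map_of_injective (MulAut.conj _).injective])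
  refine Subgroup.mem_normalizer_iff.mpr fun y => ⟨fun hy => he ▸ ⟨y, hy, rfl⟩, fun hy => ?_⟩
  rw [← he] at hy
  obtain ⟨y', hy', e⟩ := hy
  have e' : el (nW.getD a.val []) * y' * (el (nW.getD a.val []))⁻¹ =
      el (nW.getD a.val []) * y * (el (nW.getD a.val []))⁻¹ := e
  rwa [mul_left_cancel (mul_right_cancel e')] at hy'

theorem line_images : ∀ a : Fin 2, ∀ i : Fin 11,
    lineOf (lin (rows (nMat.getD a.val [])) (lineL i)) = gfun a i := by decide +kernel

theorem gperm_theta (a : Fin 2) : gperm a ∈ theta.range := by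
  refine ⟨⟨el (nW.getD a.val []), nW_mem a⟩, Equiv.ext fun i => ?_⟩
  rw [theta_apply, pm]
  have : tau ⟨el (nW.getD a.val []), nW_mem a⟩ (lineL i) = lin (rows (nMat.getD a.val [])) (lineL i) :=
    xh_inj (by rw [tau_spec]; exact conj_nW a _)
  rw [this, line_images]
  rfl

/-- The kernel. -/
theorem ker_theta (H : InvolEleven) : theta.ker = A.subgroupOf Nn := by
  ext n
  rw [MonoidHom.mem_ker, Subgroup.mem_subgroupOf]
  exact ⟨fun h => stab_mem H fun k => by rw [h]; rfl, theta_A⟩

theorem card_range_theta (H : InvolEleven) : Nat.card theta.range ≤ 7920 := by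
  let f : theta.range → (Fin 4 ↪ Fin 11) := fun p =>
    (Fin.castLEEmb (by norm_num)).trans (p : Equiv.Perm (Fin 11)).toEmbedding
  have hf : Function.Injective f := by
    rintro ⟨_, n, rfl⟩ ⟨_, m, rfl⟩ h
    refine Subtype.ext ?_
    have hmem : (m⁻¹ * n : Nn) ∈ theta.ker := by
      rw [ker_theta H, Subgroup.mem_subgroupOf]
      refine stab_mem H fun k => ?_
      have hk : theta n (k.castLE (by norm_num)) = theta m (k.castLE (by norm_num)) :=
        congrArg (fun e : Fin 4 ↪ Fin 11 => e k) h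
      rw [map_mul, Equiv.Perm.mul_apply, hk, ← Equiv.Perm.mul_apply, ← map_mul, inv_mul_cancel, map_one]
      rfl
    rw [MonoidHom.mem_ker, map_mul, map_inv, inv_mul_eq_one] at hmem
    exact hmem.symm
  refine (Nat.card_le_card_of_injective f hf).trans (le_of_eq ?_)
  rw [Nat.card_eq_fintype_card, Fintype.card_embedding_eq, Fintype.card_fin, Fintype.card_fin]
  rfl

theorem range_theta (H : InvolEleven) : theta.range = Gp :=
  (Subgroup.eq_of_le_of_card_ge ((Subgroup.closure_le _).mpr (by rintro _ ⟨a, rfl⟩; exact gperm_theta a))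
    ((card_range_theta H).trans le_card_Gp)).symm

/-- The quotient. -/
theorem quot_M11 (H : InvolEleven) : ∃ hn : (A.subgroupOf Nn).Normal,
    Nonempty (@HasQuotient.Quotient Nn _ _ (A.subgroupOf Nn) ≃* Cfsg.Spor.M11) := by
  have hn : (A.subgroupOf Nn).Normal := ker_theta H ▸ theta.normal_ker
  refine ⟨hn, ?_⟩
  obtain ⟨ι⟩ := iso_Gp
  exact ⟨((QuotientGroup.quotientMulEquivOfEq (ker_theta H).symm).trans
    ((QuotientGroup.quotientKerEquivRange theta).trans (MulEquiv.subgroupCongr (range_theta H)))).trans ι⟩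

end CfsgLib.SuzThreeFive
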