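import Cfsg.Agent.Lib.SuzThreeFive.Eleven
import Cfsg.Agent.Lib.SuzType.Iso.Main
import Cfsg.Agent.Lib.SuzType.Iso.CentFive
import Cfsg.Prelude.Def_Transfer
import Cfsg.Prelude.Def_Spor_Mathieu

/-!
The elementary abelian subgroup of order 243 in a group isomorphic to Suz.
-/

set_option autoImplicit false
set_option maxRecDepth 100000
set_option synthInstance.maxSize 2000

universe u

namespace CfsgLib.SuzThreeFive

open CfsgLib.SuzType (V O6)
open CfsgLib.CosetEnum (presSuz)

section
variable {G : Type u} [Group G] [Finite G]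

/-- No element of order eleven commutes with an involution. -/
theorem invol_eleven {z x t w : G} {Q : Subgroup G} {π : G → V} {M : G → O6} (B : SuzType.Base z x t w Q)
    (h : SuzType.ST z Q π M) {j s : G} (hjj : j * j = 1) (hj : j ≠ 1) (hjs : Commute j s) (hs : s ^ 11 = 1) :
    s = 1 := by
  have key : ∀ {a g : G}, g * a * g⁻¹ = j → Commute (g⁻¹ * s * g) a := fun {a g} e => by
    show g⁻¹ * s * g * a = a * (g⁻¹ * s * g)
    rw [show g⁻¹ * s * g * a = g⁻¹ * (s * (g * a * g⁻¹)) * g by group, e, ← hjs.eq, ← e]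
    group
  have fin : ∀ {g : G} (K : Subgroup G), g⁻¹ * s * g ∈ K → ¬ 11 ∣ Nat.card K → s = 1 := fun {g} K hm hK => by
    have hp : (g⁻¹ * s * g) ^ 11 = 1 := by
      have := congrArg (MulAut.conj g⁻¹) hs
      rw [map_pow, map_one] at this
      simpa using this
    rcases (Nat.dvd_prime (by norm_num)).mp (orderOf_dvd_of_pow_eq_one hp) with e | e
    · rw [orderOf_eq_one_iff] at e
      rw [show s = g * (g⁻¹ * s * g) * g⁻¹ by group, e, mul_one, mul_inv_cancel]
    · exact absurd (e ▸ Subgroup.orderOf_dvd_natCard K hm) hK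
  rcases B.invol_class h hjj hj with hc | hc <;> obtain ⟨g, hg⟩ := isConj_iff.mp hc
  · refine fin (g := g) (Subgroup.centralizer ({z} : Set G)) (Subgroup.mem_centralizer_singleton_iff.mpr ?_) ?_
    · exact (key hg).eq
    · rw [h.card_Cz]; norm_num
  · refine fin (g := g) (SuzType.Kg t w) (B.odd_mem_K (key hg).eq (Odd.of_dvd_nat (show Odd 11 by decide) ?_)) ?_
    · refine orderOf_dvd_of_pow_eq_one ?_
      have := congrArg (MulAut.conj g⁻¹) hs
      rw [map_pow, map_one] at this
      simpa using this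
    · rw [B.card_K]; norm_num

/-- The statement for a group isomorphic to Suz. -/
theorem result (e : G ≃* presSuz.Grp)
    (H : ∀ j : G, j * j = 1 → j ≠ 1 → ∀ s : G, Commute j s → s ^ 11 = 1 → s = 1)
    (N : Subgroup G) (hN : Nat.card N = 19595520) (P : Sylow 3 N) :
    ¬ 3 ∣ ((P : Subgroup N).map N.subtype).index ∧
      ∃ A : Subgroup G, A ≤ (P : Subgroup N).map N.subtype ∧ Cfsg.IsElementaryAbelian 3 A ∧ Nat.card A = 3 ^ 5 ∧
        Subgroup.centralizer (A : Set G) = A ∧
        ∃ _ : (A.subgroupOf (Subgroup.normalizer (A : Set G))).Normal,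
          Cfsg.Spor.IsoM11 (↥(Subgroup.normalizer (A : Set G)) ⧸ A.subgroupOf (Subgroup.normalizer (A : Set G))) := by
  classical
  haveI : Fact (Nat.Prime 3) := ⟨Nat.prime_three⟩
  have hG : Nat.card G = 448345497600 := by rw [Nat.card_congr e.toEquiv, SuzOut.card_grp]
  -- the Sylow subgroup
  set S := (P : Subgroup N).map N.subtype with hS
  have hSc : Nat.card S = Nat.card (P : Subgroup N) := Subgroup.card_map_of_injective N.subtype_injective
  obtain ⟨k, hk⟩ := IsPGroup.iff_card.mp P.isPGroup'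
  have h7 : 3 ^ 7 ∣ Nat.card S := by
    rw [hSc]; exact P.pow_dvd_card_of_pow_dvd_card (by rw [hN]; norm_num)
  have hk7 : Nat.card S = 3 ^ 7 := by
    have h1 : Nat.card S ∣ 448345497600 := hG ▸ Subgroup.card_subgroup_dvd_card S
    rw [hSc, hk] at h1 h7 ⊢
    have h8 : k < 8 := by
      by_contra hge
      have := (pow_dvd_pow 3 (not_lt.mp hge)).trans h1
      norm_num at this
    have h7' : 7 ≤ k := (Nat.pow_dvd_pow_iff_le_right (by norm_num : 1 < 3)).mp h7
    rw [show k = 7 by omega]
  have hidx : S.index = 205004800 := by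
    have := S.card_mul_index
    rw [hk7, hG] at this
    omega
  refine ⟨by rw [hidx]; norm_num, ?_⟩
  -- the elementary abelian subgroup
  have hfac : (448345497600 : ℕ).factorization 3 = 7 := by
    rw [show (448345497600 : ℕ) = 3 ^ 7 * 205004800 by norm_num, Nat.factorization_mul (by norm_num) (by norm_num),
      Finsupp.add_apply, Nat.Prime.factorization_pow Nat.prime_three, Finsupp.single_eq_same,
      Nat.factorization_eq_zero_of_not_dvd (by norm_num)]
  let T : Sylow 3 G := Sylow.ofCard S (by rw [hk7, hG, hfac])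
  have hA0 : IsPGroup 3 (A.map e.symm.toMonoidHom) :=
    IsPGroup.of_card (n := 5) (by rw [Subgroup.card_map_of_injective e.symm.injective, card_A]; norm_num)
  obtain ⟨R, hR⟩ := hA0.exists_le_sylow
  obtain ⟨g, hg⟩ := MulAction.exists_smul_eq G R T
  let f : presSuz.Grp ≃* G := e.symm.trans (MulAut.conj g)
  let A' := A.map f.toMonoidHom
  have hA' : A' = (A.map e.symm.toMonoidHom).map (MulAut.conj g).toMonoidHom := by
    rw [Subgroup.map_map]; rfl
  refine ⟨A', ?_, ⟨?_, ?_⟩, ?_, ?_, ?_⟩
  · have hT : (T : Subgroup G) = S := rfl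
    rw [← hT, ← hg, hA', Sylow.coe_subgroup_smul]
    exact Subgroup.map_mono hR
  · refine ⟨⟨fun a b => Subtype.ext ?_⟩⟩
    obtain ⟨a', ha', ea⟩ := a.2
    obtain ⟨b', hb', eb⟩ := b.2
    show (a : G) * b = b * a
    rw [← ea, ← eb, ← map_mul, ← map_mul, show a' * b' = b' * a' from
      congrArg Subtype.val (A_comm.is_comm.comm ⟨a', ha'⟩ ⟨b', hb'⟩)]
  · rintro _ ⟨a, ha, rfl⟩
    rw [← map_pow, A_cube a ha, map_one]
  · rw [Subgroup.card_map_of_injective f.injective, card_A]; norm_num
  · ext y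
    obtain ⟨y, rfl⟩ := f.surjective y
    have h1 : f y ∈ A' ↔ y ∈ A := Subgroup.mem_map_iff_mem f.injective
    rw [h1, Subgroup.mem_centralizer_iff, ← (congrArg (y ∈ ·) centralizer_A).to_iff, Subgroup.mem_centralizer_iff]
    constructor
    · intro h a ha
      exact f.injective (by rw [map_mul, map_mul]; exact h (f a) ⟨a, ha, rfl⟩)
    · rintro h _ ⟨a, ha, rfl⟩
      show f a * f y = f y * f a
      rw [← map_mul, ← map_mul, h a ha]
  · have H' : InvolEleven := fun j hjj hj s hjs hs => by
      have := H (e.symm j) (by rw [← map_mul, hjj, map_one]) (fun h => hj (by simpa using congrArg e h))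
        (e.symm s) (hjs.map e.symm) (by rw [← map_pow, hs, map_one])
      simpa using congrArg e this
    obtain ⟨hn, ⟨ι⟩⟩ := quot_M11 H'
    have hNmap : Nn.map f.toMonoidHom = Subgroup.normalizer (A' : Set G) := Subgroup.map_equiv_normalizer_eq A f
    let eN : Nn ≃* Subgroup.normalizer (A' : Set G) := (f.subgroupMap Nn).trans (MulEquiv.subgroupCongr hNmap)
    have heA : (A.subgroupOf Nn).map (eN : Nn →* Subgroup.normalizer (A' : Set G)) =
        A'.subgroupOf (Subgroup.normalizer (A' : Set G)) := by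
      ext y
      rw [Subgroup.mem_subgroupOf]
      constructor
      · rintro ⟨v, hv, rfl⟩; exact ⟨v, Subgroup.mem_subgroupOf.mp hv, rfl⟩
      · rintro ⟨v, hv, hvy⟩
        exact ⟨⟨v, A_le hv⟩, Subgroup.mem_subgroupOf.mpr hv, Subtype.ext hvy⟩
    haveI hn' : (A'.subgroupOf (Subgroup.normalizer (A' : Set G))).Normal := heA ▸ hn.map _ eN.surjective
    exact ⟨hn', ⟨(QuotientGroup.congr _ _ eN heA).symm.trans ι⟩⟩

end

end CfsgLib.SuzThreeFive
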