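import Cfsg.Agent.Lib.SuzThreeFive.Cent

/-!
The action of the normaliser on eleven lines.
-/

set_option autoImplicit false
set_option maxRecDepth 100000
set_option synthInstance.maxSize 2000

namespace CfsgLib.SuzThreeFive

open CfsgLib.CosetEnum CfsgLib.SuzOut

/-- The representatives of the lines. -/
def lineL (i : Fin 11) : V5 := vec (lineV.getD i.val 0)

/-- The small class. -/
def inS (v : V5) : Bool := decide (∃ i : Fin 11, v = lineL i ∨ v = (lineL i)⁻¹)

/-- The index of a line. -/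
def lineOf (v : V5) : Fin 11 :=
  ((List.finRange 11).find? fun i => decide (v = lineL i ∨ v = (lineL i)⁻¹)).getD 0

theorem lineOf_spec : ∀ i : Fin 11, lineOf (lineL i) = i ∧ inS (lineL i) = true := by decide +kernel

theorem lineOf_inv : ∀ v : V5, lineOf v⁻¹ = lineOf v := by decide +kernel

theorem inS_spec' : ∀ v : V5, inS v = false ∨ v = lineL (lineOf v) ∨ v = (lineL (lineOf v))⁻¹ := by decide +kernel

theorem inS_spec {v : V5} (h : inS v = true) : v = lineL (lineOf v) ∨ v = (lineL (lineOf v))⁻¹ :=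
  (inS_spec' v).resolve_left (by rw [h]; decide)

/-! ### The classes -/

theorem tree_ok : ((List.range treeS.length).all fun j => Nat.beq j 0 ||
    (decide ((treeS.getD j (0, 0, 0)).2.1 < j) && decide ((treeS.getD j (0, 0, 0)).2.2 < 2) &&
      decide (lin (rows (nMat.getD (treeS.getD j (0, 0, 0)).2.2 [])) (vec (treeS.getD (treeS.getD j (0, 0, 0)).2.1 (0, 0, 0)).1) =
        vec (treeS.getD j (0, 0, 0)).1))) = true ∧
  ((List.range treeF.length).all fun j => Nat.beq j 0 ||
    (decide ((treeF.getD j (0, 0, 0)).2.1 < j) && decide ((treeF.getD j (0, 0, 0)).2.2 < 2) &&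
      decide (lin (rows (nMat.getD (treeF.getD j (0, 0, 0)).2.2 [])) (vec (treeF.getD (treeF.getD j (0, 0, 0)).2.1 (0, 0, 0)).1) =
        vec (treeF.getD j (0, 0, 0)).1))) = true := by decide +kernel

/-- The entries of a tree are conjugate to its root. -/
theorem tree_conj {T : List (ℕ × ℕ × ℕ)}
    (h : ((List.range T.length).all fun j => Nat.beq j 0 ||
      (decide ((T.getD j (0, 0, 0)).2.1 < j) && decide ((T.getD j (0, 0, 0)).2.2 < 2) &&
        decide (lin (rows (nMat.getD (T.getD j (0, 0, 0)).2.2 [])) (vec (T.getD (T.getD j (0, 0, 0)).2.1 (0, 0, 0)).1) =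
          vec (T.getD j (0, 0, 0)).1))) = true) :
    ∀ j, j < T.length → ∃ g : presSuz.Grp,
      g * xh (vec (T.getD 0 (0, 0, 0)).1) * g⁻¹ = xh (vec (T.getD j (0, 0, 0)).1) := by
  intro j
  induction j using Nat.strong_induction_on with
  | _ j ih =>
    intro hj
    have hh := List.all_eq_true.mp h j (List.mem_range.mpr hj)
    simp only [Bool.or_eq_true, Bool.and_eq_true, decide_eq_true_eq] at hh
    rcases hh with h0 | ⟨⟨hp, hg⟩, e⟩
    · obtain rfl := Nat.eq_of_beq_eq_true h0
      exact ⟨1, by rw [one_mul, inv_one, mul_one]⟩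
    · obtain ⟨g, hgp⟩ := ih _ hp (hp.trans hj)
      refine ⟨el (nW.getD (T.getD j (0, 0, 0)).2.2 []) * g, ?_⟩
      rw [← e, ← conj_nW ⟨_, hg⟩, ← hgp]
      group

theorem cover : ∀ v : V5, v = 1 ∨ (inS v = true ∧ ∃ j : Fin 22, v = vec (treeS.getD j.val (0, 0, 0)).1) ∨
    (inS v = false ∧ ∃ j : Fin 220, v = vec (treeF.getD j.val (0, 0, 0)).1) := by decide +kernel

theorem lengths : treeS.length = 22 ∧ treeF.length = 220 ∧ vec (treeS.getD 0 (0, 0, 0)).1 = unit5 0 := by
  decide +kernel

theorem root_ok : sameEl yW (xW (treeF.getD 0 (0, 0, 0)).1) = true ∧ okWord yW = true ∧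
    run1 (aw 0) fixPt = fixPt ∧ fixPt < 1782 := by decide +kernel

theorem free_ok : allN 1782 (fun d => force d fun d => !(Nat.beq (run1 yW d) d)) = true := by decide +kernel

/-- An element fixing a point. -/
def HasFix (x : presSuz.Grp) : Prop := ∃ d < Suz1782.cert.T.n, pt x d = d

theorem HasFix.conj {x : presSuz.Grp} (h : HasFix x) (g : presSuz.Grp) : HasFix (g * x * g⁻¹) := by
  obtain ⟨d, hd, e⟩ := h
  refine ⟨pt g d, pt_lt g hd, ?_⟩
  rw [← pt_mul _ _ hd, inv_mul_cancel_right, pt_mul _ _ hd, e]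

theorem HasFix.conj_iff {x g : presSuz.Grp} : HasFix (g * x * g⁻¹) ↔ HasFix x :=
  ⟨fun h => by
    have := h.conj g⁻¹
    rwa [show g⁻¹ * (g * x * g⁻¹) * g⁻¹⁻¹ = x by group] at this, fun h => h.conj g⟩

theorem hasFix_iff {v : V5} (hv : v ≠ 1) : HasFix (xh v) ↔ inS v = true := by
  obtain ⟨lS, lF, r0⟩ := lengths
  obtain ⟨hy, oky, hfix, hlt⟩ := root_ok
  rcases (cover v).resolve_left hv with ⟨hs, j, hj⟩ | ⟨hf, j, hj⟩
  · obtain ⟨g, hg⟩ := tree_conj tree_ok.1 j.val (by rw [lS]; exact j.isLt)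
    rw [← hj, r0, xh_unit] at hg
    rw [← hg, HasFix.conj_iff]
    have hlt' : fixPt < Suz1782.cert.T.n := hlt
    exact iff_of_true ⟨fixPt, hlt', (pt_el (aw_ok 0) hlt').trans hfix⟩ hs
  · obtain ⟨g, hg⟩ := tree_conj tree_ok.2 j.val (by rw [lF]; exact j.isLt)
    rw [← hj, xh_vec, ← el_eq hy] at hg
    rw [← hg, HasFix.conj_iff]
    refine iff_of_false ?_ (by rw [hf]; decide)
    rintro ⟨d, hd, e⟩
    rw [pt_el oky hd] at e
    have h := allN_spec free_ok d hd
    rw [force_eq, e, Nat.beq_refl] at h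
    exact absurd h (by decide)

/-! ### The normaliser -/

/-- The normaliser. -/
noncomputable def Nn : Subgroup presSuz.Grp := Subgroup.normalizer (A : Set presSuz.Grp)

theorem conj_mem (n : Nn) (v : V5) : ∃ w : V5, xh w = (n : presSuz.Grp) * xh v * (n : presSuz.Grp)⁻¹ :=
  (Subgroup.mem_normalizer_iff.mp n.2 (xh v)).mp (mem_A v)

/-- The action on exponents. -/
noncomputable def tau (n : Nn) : V5 →* V5 :=
  MonoidHom.mk' (fun v => (conj_mem n v).choose) fun a b => xh_inj ((conj_mem n (a * b)).choose_spec.trans (by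
    simp only [map_mul, (conj_mem n a).choose_spec, (conj_mem n b).choose_spec]
    group))

theorem tau_spec (n : Nn) (v : V5) : xh (tau n v) = (n : presSuz.Grp) * xh v * (n : presSuz.Grp)⁻¹ :=
  (conj_mem n v).choose_spec

theorem tau_mul (n m : Nn) (v : V5) : tau (n * m) v = tau n (tau m v) := xh_inj (by
  rw [tau_spec, tau_spec, tau_spec, Subgroup.coe_mul]
  group)

theorem tau_one (v : V5) : tau 1 v = v := xh_inj (by
  rw [tau_spec, Subgroup.coe_one, one_mul, inv_one, mul_one])

theorem tau_inS (n : Nn) {v : V5} (h : inS v = true) : inS (tau n v) = true := by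
  have hv : v ≠ 1 := fun e => by rw [e] at h; exact absurd h (by decide +kernel)
  have hv' : tau n v ≠ 1 := fun e => by
    have := tau_spec n v
    rw [e, map_one, eq_comm, conj_eq_one_iff] at this
    exact hv (xh_inj (this.trans (map_one xh).symm))
  rw [← hasFix_iff hv', tau_spec, HasFix.conj_iff, hasFix_iff hv]
  exact h

/-- The action on lines. -/
noncomputable def pm (n : Nn) (i : Fin 11) : Fin 11 := lineOf (tau n (lineL i))

theorem pm_mul (n m : Nn) (i : Fin 11) : pm (n * m) i = pm n (pm m i) := by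
  rw [pm, tau_mul]
  rcases inS_spec (tau_inS m (lineOf_spec i).2) with h | h <;> rw [h]
  · rfl
  · rw [map_inv, lineOf_inv]; rfl

theorem pm_one (i : Fin 11) : pm 1 i = i := by rw [pm, tau_one, (lineOf_spec i).1]

/-- The permutation representation. -/
noncomputable def theta : Nn →* Equiv.Perm (Fin 11) :=
  MonoidHom.mk' (fun n => ⟨pm n, pm n⁻¹, fun i => by rw [← pm_mul, inv_mul_cancel, pm_one],
    fun i => by rw [← pm_mul, mul_inv_cancel, pm_one]⟩) fun n m => Equiv.ext fun i => pm_mul n m i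

theorem theta_apply (n : Nn) (i : Fin 11) : theta n i = pm n i := rfl

theorem A_le : A ≤ Nn := Subgroup.le_normalizer

theorem tau_A {n : Nn} (h : (n : presSuz.Grp) ∈ A) (v : V5) : tau n v = v := by
  obtain ⟨u, hu⟩ := h
  refine xh_inj ?_
  rw [tau_spec, ← hu, ← map_inv, ← map_mul, ← map_mul, mul_comm u v, mul_inv_cancel_right]

theorem theta_A {n : Nn} (h : (n : presSuz.Grp) ∈ A) : theta n = 1 :=
  Equiv.ext fun i => by rw [theta_apply, pm, tau_A h, (lineOf_spec i).1]; rfl

/-! ### The stabiliser of four lines -/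

/-- An element or its inverse. -/
def sg (b : Bool) (v : V5) : V5 := bif b then v⁻¹ else v

/-- The rows of a candidate map. -/
def candM (a b c d f : Bool) (j : Fin 11) : Fin 5 → V5 :=
  ![sg a (unit5 0), sg b (unit5 1), sg c (unit5 2), sg d (unit5 3), sg f (lineL j)]

/-- The map preserves the small class. -/
def keeps (M : Fin 5 → V5) : Bool := (List.finRange 11).all fun i => inS (lin M (lineL i))

theorem stab_ok : ∀ a b c d f : Bool, ∀ j : Fin 11,
    keeps (candM a b c d f j) = false ∨ (b = a ∧ c = a ∧ d = a ∧ f = a ∧ j = 5) := by decide +kernel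

theorem units : unit5 0 = lineL 0 ∧ unit5 1 = lineL 1 ∧ unit5 2 = lineL 2 ∧ unit5 3 = lineL 3 ∧ unit5 4 = lineL 5 := by
  decide +kernel

theorem sg_lin : ∀ v : V5, lin (candM true true true true true 5) v = v⁻¹ ∧
    lin (candM false false false false false 5) v = v := by decide +kernel

theorem sg_of {w v : V5} (h : w = v ∨ w = v⁻¹) : ∃ b, w = sg b v :=
  h.elim (fun e => ⟨false, e⟩) fun e => ⟨true, e⟩

/-- An element fixing four lines centralises or inverts. -/
theorem stab_four {n : Nn} (h : ∀ k : Fin 4, theta n (k.castLE (by norm_num)) = k.castLE (by norm_num)) :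
    (∀ v, tau n v = v) ∨ ∀ v, tau n v = v⁻¹ := by
  obtain ⟨u0, u1, u2, u3, u4⟩ := units
  have row : ∀ i : Fin 11, theta n i = i → ∃ b, tau n (lineL i) = sg b (lineL i) := fun i hi => by
    have hs := inS_spec (tau_inS n (lineOf_spec i).2)
    rw [show lineOf (tau n (lineL i)) = i from hi] at hs
    exact sg_of hs
  obtain ⟨a, ha⟩ := row 0 (h 0)
  obtain ⟨b, hb⟩ := row 1 (h 1)
  obtain ⟨c, hc⟩ := row 2 (h 2)
  obtain ⟨d, hd⟩ := row 3 (h 3)
  obtain ⟨f, hf⟩ := sg_of (inS_spec (tau_inS n (lineOf_spec 5).2))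
  set j := lineOf (tau n (lineL 5))
  have hlin : ∀ v, tau n v = lin (candM a b c d f j) v := fun v => by
    rw [hom_eq_lin (tau n) v]
    congr 1
    funext i
    fin_cases i
    · simp [candM, u0, ha]
    · simp [candM, u1, hb]
    · simp [candM, u2, hc]
    · simp [candM, u3, hd]
    · simp [candM, u4, hf]
  have hk : keeps (candM a b c d f j) = true := by
    simp only [keeps, List.all_eq_true]
    exact fun i _ => by rw [← hlin]; exact tau_inS n (lineOf_spec i).2
  obtain ⟨rfl, rfl, rfl, rfl, hj⟩ := (stab_ok a b c d f j).resolve_left (by rw [hk]; decide)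
  rw [hj] at hlin
  cases f
  · exact Or.inl fun v => (hlin v).trans (sg_lin v).2
  · exact Or.inr fun v => (hlin v).trans (sg_lin v).1

/-- The hypothesis on centralisers of involutions. -/
def InvolEleven : Prop :=
  ∀ j : presSuz.Grp, j * j = 1 → j ≠ 1 → ∀ s : presSuz.Grp, Commute j s → s ^ 11 = 1 → s = 1

theorem cent_A_mem {g : presSuz.Grp} (h : ∀ v, g * xh v * g⁻¹ = xh v) : g ∈ A :=
  cent_le fun a ha => by
    obtain ⟨v, rfl⟩ := ha
    exact mul_inv_eq_iff_eq_mul.mp (h v)

/-- No element inverts the subgroup. -/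
theorem no_inverter (H : InvolEleven) (g : presSuz.Grp) (hg : ∀ v, g * xh v * g⁻¹ = (xh v)⁻¹) : False := by
  have hgA : g ∉ A := by
    rintro ⟨u, rfl⟩
    have := hg (unit5 0)
    rw [← map_inv, ← map_inv, ← map_mul, ← map_mul] at this
    have := xh_inj this
    rw [mul_comm u, mul_inv_cancel_right] at this
    exact absurd this (by decide +kernel)
  have hg2 : g * g ∈ A := cent_A_mem fun v => by
    rw [show g * g * xh v * (g * g)⁻¹ = g * (g * xh v * g⁻¹) * g⁻¹ by group, hg, ← map_inv, hg, map_inv, inv_inv]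
  obtain ⟨u, hu⟩ := hg2
  have hgg : g * g = 1 := by
    have h1 : xh u = (xh u)⁻¹ := by
      conv_lhs => rw [hu, show g * g = g * (g * g) * g⁻¹ by group, ← hu]
      exact hg u
    rw [← map_inv] at h1
    have h2 := xh_inj h1
    have h3 : u ^ 2 = 1 := by rw [pow_two]; nth_rw 1 [h2]; exact inv_mul_cancel u
    have h4 : u = 1 := by
      have := cube_V u
      rwa [pow_succ, h3, one_mul] at this
    rw [← hu, h4, map_one]
  have hgi : g⁻¹ = g := inv_eq_of_mul_eq_one_right hgg
  set s := el sW with hs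
  let T' : V5 →* V5 := MonoidHom.mk' (lin (rows sMat)) fun a b => xh_inj (by
    rw [map_mul, ← conj_sW, ← conj_sW, ← conj_sW, map_mul]; group)
  have ha : g * s * g⁻¹ * s⁻¹ ∈ A := by
    refine cent_A_mem fun v => ?_
    obtain ⟨w, hw⟩ : ∃ w, T' w = v := by
      refine Finite.injective_iff_surjective.mp (fun a b e => xh_inj ?_) v
      have e' : xh (lin (rows sMat) a) = xh (lin (rows sMat) b) := congrArg xh e
      rw [← conj_sW, ← conj_sW] at e'
      exact mul_left_cancel (mul_right_cancel e')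
    have hw' : xh v = s * xh w * s⁻¹ := by rw [← hw, hs, conj_sW]; rfl
    rw [show g * s * g⁻¹ * s⁻¹ * xh v * (g * s * g⁻¹ * s⁻¹)⁻¹ =
      g * (s * (g⁻¹ * (s⁻¹ * xh v * s) * g) * s⁻¹) * g⁻¹ by group,
      show s⁻¹ * xh v * s = xh w by rw [hw']; group,
      show g⁻¹ * xh w * g = (xh w)⁻¹ by
        have := hg w
        nth_rw 2 [← hgi] at this
        rw [show g⁻¹ * xh w * g = g⁻¹ * xh w * g⁻¹⁻¹ by group, hgi, ← hg w],
      show s * (xh w)⁻¹ * s⁻¹ = (s * xh w * s⁻¹)⁻¹ by group, ← hw', ← map_inv, hg, map_inv, inv_inv]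
  obtain ⟨va, hva⟩ := ha
  let D : V5 →* V5 := MonoidHom.mk' (fun c => c * (T' c)⁻¹) fun a b => by
    rw [map_mul, mul_inv_rev]; ac_rfl
  obtain ⟨c, hc⟩ : ∃ c, D c = va := by
    refine Finite.injective_iff_surjective.mp ((injective_iff_map_eq_one D).mpr fun c hc => ?_) va
    exact sMat_free c (mul_inv_eq_one.mp hc).symm
  have hcc : va * T' c = c := by rw [← hc]; exact inv_mul_cancel_right c (T' c)
  have hj : g * xh c * (g * xh c) = 1 := by
    have := hg c
    rw [hgi] at this
    rw [← mul_assoc, this, inv_mul_cancel]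
  have hj1 : g * xh c ≠ 1 := fun e => hgA (by
    rw [eq_inv_of_mul_eq_one_left e]
    exact inv_mem (mem_A c))
  have hsg : s * g * s⁻¹ = g * xh va := by
    rw [hva, hgi, show g * (g * s * g * s⁻¹) = g * g * (s * g * s⁻¹) by group, hgg, one_mul]
  have hcomm : Commute (g * xh c) s := by
    have e : s * (g * xh c) * s⁻¹ = g * xh c := by
      rw [show s * (g * xh c) * s⁻¹ = (s * g * s⁻¹) * (s * xh c * s⁻¹) by group, hsg, hs, conj_sW, mul_assoc,
        ← map_mul]
      exact congrArg (fun u => g * xh u) hcc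
    exact (mul_inv_eq_iff_eq_mul.mp e).symm
  exact sW_ne (H _ hj hj1 s hcomm sW_pow)

/-- The kernel of the action. -/
theorem stab_mem (H : InvolEleven) {n : Nn}
    (h : ∀ k : Fin 4, theta n (k.castLE (by norm_num)) = k.castLE (by norm_num)) : (n : presSuz.Grp) ∈ A := by
  rcases stab_four h with e | e
  · exact cent_A_mem fun v => by rw [← tau_spec, e]
  · exact (no_inverter H n fun v => by rw [← tau_spec, e, map_inv]).elim

end CfsgLib.SuzThreeFive
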