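import Cfsg.Agent.Lib.SuzThreeFive.Data

/-!
An elementary abelian subgroup of order 243 in the presented Suzuki group.
-/

set_option autoImplicit false
set_option maxRecDepth 100000
set_option synthInstance.maxSize 2000

namespace CfsgLib.SuzThreeFive

open CfsgLib.CosetEnum CfsgLib.SuzOut

/-- The cyclic group of order three. -/
abbrev T : Type := Multiplicative (ZMod 3)

/-- The space of exponents. -/
abbrev V5 : Type := T × (T × (T × (T × T)))

/-- The exponent of a digit. -/
def dig (k i : ℕ) : ℕ := k / 3 ^ i % 3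

/-- The value of an exponent. -/
def val3 (a : T) : ℕ := (Multiplicative.toAdd a).val

/-- The vector of a code. -/
def vec (k : ℕ) : V5 :=
  (Multiplicative.ofAdd (dig k 0 : ZMod 3), Multiplicative.ofAdd (dig k 1 : ZMod 3),
    Multiplicative.ofAdd (dig k 2 : ZMod 3), Multiplicative.ofAdd (dig k 3 : ZMod 3),
    Multiplicative.ofAdd (dig k 4 : ZMod 3))

/-- The code of a vector. -/
def code (v : V5) : ℕ :=
  val3 v.1 + 3 * val3 v.2.1 + 9 * val3 v.2.2.1 + 27 * val3 v.2.2.2.1 + 81 * val3 v.2.2.2.2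

theorem vec_code : ∀ v : V5, vec (code v) = v := by decide +kernel

/-- The word of a basis element. -/
def aw (i : ℕ) : List ℕ := aW.getD i []

/-- The word of a code. -/
def xW (k : ℕ) : List ℕ :=
  powW (aw 4) (dig k 4) ++ powW (aw 3) (dig k 3) ++ powW (aw 2) (dig k 2) ++ powW (aw 1) (dig k 1) ++
    powW (aw 0) (dig k 0)

/-- The word of a conjugate. -/
def cjW (w x : List ℕ) : List ℕ := w.reverse ++ x ++ w

theorem el_conj (w x : List ℕ) : el (cjW w x) = el w * el x * (el w)⁻¹ := by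
  rw [cjW, el_append, el_append, el_inv]
  group

theorem okWord_pow {w : List ℕ} (hw : okWord w = true) : ∀ n, okWord (powW w n) = true
  | 0 => rfl
  | n + 1 => okWord_append (okWord_pow hw n) hw

theorem aw_ok : ∀ i : Fin 5, okWord (aw i) = true := by decide +kernel

theorem xW_okWord (k : ℕ) : okWord (xW k) = true :=
  okWord_append (okWord_append (okWord_append (okWord_append (okWord_pow (aw_ok 4) _) (okWord_pow (aw_ok 3) _))
    (okWord_pow (aw_ok 2) _)) (okWord_pow (aw_ok 1) _)) (okWord_pow (aw_ok 0) _)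

theorem aw_rel : ∀ i : Fin 5, sameEl (powW (aw i) 3) [] = true ∧
    ∀ j : Fin 5, sameEl (aw i ++ aw j) (aw j ++ aw i) = true := by decide +kernel

theorem aw_cube (i : Fin 5) : el (aw i) ^ 3 = 1 := by
  rw [← el_powW, el_eq (aw_rel i).1, el_nil]

theorem aw_comm (i j : Fin 5) : Commute (el (aw i)) (el (aw j)) := by
  have := el_eq ((aw_rel i).2 j)
  rw [el_append, el_append] at this
  exact this.symm

/-- The powers of a basis element. -/
noncomputable def hom1 (i : Fin 5) : T →* presSuz.Grp :=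
  MonoidHom.mk' (fun a => el (aw i) ^ val3 a) fun a b => by
    rw [← pow_add]
    show el (aw i) ^ (Multiplicative.toAdd a + Multiplicative.toAdd b).val = _
    rw [ZMod.val_add, ← pow_eq_pow_mod _ (aw_cube i)]
    rfl

theorem hom1_comm (i j : Fin 5) (a b : T) : Commute (hom1 i a) (hom1 j b) := (aw_comm i j).pow_pow _ _

/-- The last two coordinates. -/
noncomputable def hom34 : T × T →* presSuz.Grp := (hom1 3).noncommCoprod (hom1 4) (hom1_comm 3 4)

/-- The last three coordinates. -/
noncomputable def hom234 : T × (T × T) →* presSuz.Grp :=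
  (hom1 2).noncommCoprod hom34 fun a b => (hom1_comm 2 3 a b.1).mul_right (hom1_comm 2 4 a b.2)

/-- The last four coordinates. -/
noncomputable def hom1234 : T × (T × (T × T)) →* presSuz.Grp :=
  (hom1 1).noncommCoprod hom234 fun a b =>
    (hom1_comm 1 2 a b.1).mul_right ((hom1_comm 1 3 a b.2.1).mul_right (hom1_comm 1 4 a b.2.2))

/-- The elements with given exponents. -/
noncomputable def xh : V5 →* presSuz.Grp :=
  (hom1 0).noncommCoprod hom1234 fun a b =>
    (hom1_comm 0 1 a b.1).mul_right ((hom1_comm 0 2 a b.2.1).mul_right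
      ((hom1_comm 0 3 a b.2.2.1).mul_right (hom1_comm 0 4 a b.2.2.2)))

theorem xh_apply (v : V5) : xh v = el (aw 0) ^ val3 v.1 * (el (aw 1) ^ val3 v.2.1 * (el (aw 2) ^ val3 v.2.2.1 *
    (el (aw 3) ^ val3 v.2.2.2.1 * el (aw 4) ^ val3 v.2.2.2.2))) := rfl

theorem val3_dig (k i : ℕ) : val3 (Multiplicative.ofAdd (dig k i : ZMod 3)) = dig k i := by
  show ((dig k i : ZMod 3)).val = _
  rw [ZMod.val_natCast]
  exact Nat.mod_eq_of_lt (Nat.mod_lt _ (by norm_num))

theorem xh_vec (k : ℕ) : xh (vec k) = el (xW k) := by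
  rw [xh_apply, xW, el_append, el_append, el_append, el_append, el_powW, el_powW, el_powW, el_powW, el_powW]
  simp only [vec, val3_dig]

theorem xh_el (v : V5) : xh v = el (xW (code v)) := by rw [← xh_vec, vec_code]

theorem xh_ne : ∀ v : V5, v = 1 ∨ sameEl (xW (code v)) [] = false := by decide +kernel

theorem xh_inj : Function.Injective xh := by
  refine (injective_iff_map_eq_one xh).mpr fun v hv => ?_
  rcases xh_ne v with h | h
  · exact h
  · exact absurd ((xh_el v).symm.trans hv) (el_ne (xW_okWord _) rfl h)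

/-- The subgroup. -/
noncomputable def A : Subgroup presSuz.Grp := xh.range

theorem card_A : Nat.card A = 243 := by
  rw [A, ← Nat.card_congr (MonoidHom.ofInjective xh_inj).toEquiv]
  simp

theorem A_comm : IsMulCommutative A := ⟨⟨fun a b => by
  obtain ⟨u, hu⟩ := a.2
  obtain ⟨v, hv⟩ := b.2
  refine Subtype.ext ?_
  show (a : presSuz.Grp) * b = b * a
  rw [← hu, ← hv, ← map_mul, ← map_mul, mul_comm]⟩⟩

theorem cube_T : ∀ a : T, a ^ 3 = 1 := by decide +kernel

theorem cube_V (v : V5) : v ^ 3 = 1 := by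
  simp [Prod.ext_iff, cube_T]

theorem A_cube : ∀ a ∈ A, a ^ 3 = 1 := by
  rintro _ ⟨v, rfl⟩
  rw [← map_pow, cube_V, map_one]

theorem mem_A (v : V5) : xh v ∈ A := ⟨v, rfl⟩

/-- The basis. -/
def unit5 : Fin 5 → V5 := ![vec 1, vec 3, vec 9, vec 27, vec 81]

theorem xh_unit : ∀ i : Fin 5, xh (unit5 i) = el (aw i) := by
  intro i
  rw [xh_apply]
  fin_cases i <;> simp [unit5, vec, val3_dig] <;> simp [dig]

/-- A linear map with given rows. -/
def lin (M : Fin 5 → V5) (v : V5) : V5 :=
  M 0 ^ val3 v.1 * (M 1 ^ val3 v.2.1 * (M 2 ^ val3 v.2.2.1 * (M 3 ^ val3 v.2.2.2.1 * M 4 ^ val3 v.2.2.2.2)))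

theorem lin_unit : ∀ v : V5, lin unit5 v = v := by decide +kernel

theorem map_lin {H : Type} [CommGroup H] (f : V5 →* H) (v : V5) :
    f v = f (unit5 0) ^ val3 v.1 * (f (unit5 1) ^ val3 v.2.1 * (f (unit5 2) ^ val3 v.2.2.1 *
      (f (unit5 3) ^ val3 v.2.2.2.1 * f (unit5 4) ^ val3 v.2.2.2.2))) := by
  conv_lhs => rw [← lin_unit v]
  simp only [lin, map_mul, map_pow]

theorem hom_eq_lin (f : V5 →* V5) (v : V5) : f v = lin (fun i => f (unit5 i)) v := map_lin f v

/-- The matrix of rows given by codes. -/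
def rows (l : List ℕ) (i : Fin 5) : V5 := vec (l.getD i.val 0)

theorem conj_xh {g : presSuz.Grp} {M : Fin 5 → V5} (h : ∀ i : Fin 5, g * el (aw i) * g⁻¹ = xh (M i)) (v : V5) :
    g * xh v * g⁻¹ = xh (lin M v) := by
  have e : ∀ u, g * xh u * g⁻¹ = (MulAut.conj g).toMonoidHom (xh u) := fun u => rfl
  rw [e, xh_apply, lin]
  simp only [map_mul, map_pow, ← h]
  rfl

theorem nMat_ok : ∀ a : Fin 2, ∀ i : Fin 5,
    sameEl (cjW (nW.getD a.val []) (aw i)) (xW ((nMat.getD a.val []).getD i.val 0)) = true := by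
  decide +kernel

theorem conj_nW (a : Fin 2) (v : V5) :
    el (nW.getD a.val []) * xh v * (el (nW.getD a.val []))⁻¹ = xh (lin (rows (nMat.getD a.val [])) v) :=
  conj_xh (fun i => by rw [← el_conj, el_eq (nMat_ok a i), rows, xh_vec]) v

theorem sMat_ok : ∀ i : Fin 5, sameEl (cjW sW (aw i)) (xW (sMat.getD i.val 0)) = true := by decide +kernel

theorem conj_sW (v : V5) : el sW * xh v * (el sW)⁻¹ = xh (lin (rows sMat) v) :=
  conj_xh (fun i => by rw [← el_conj, el_eq (sMat_ok i), rows, xh_vec]) v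

theorem sW_pow : el sW ^ 11 = 1 := by
  rw [← el_powW, ← el_nil]
  exact el_eq (by decide +kernel)

theorem sMat_free' : ∀ v : V5, v = 1 ∨ lin (rows sMat) v ≠ v := by decide +kernel

theorem sMat_free (v : V5) (h : lin (rows sMat) v = v) : v = 1 := (sMat_free' v).resolve_right (fun h' => h' h)

theorem sW_ne : el sW ≠ 1 := fun h => by
  have := conj_sW (unit5 0)
  rw [h, one_mul, inv_one, mul_one] at this
  exact absurd (sMat_free _ (xh_inj this).symm) (by decide +kernel)

end CfsgLib.SuzThreeFive
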